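import Groth.Agent.CntQC88.Core

/-!
# The diagonal lemma for modules; countable dimension
-/

set_option autoImplicit false

universe u v

open TrivSqZeroExt
open scoped Pointwise

namespace Groth.Agent.CntQC88.Alg

open Core

/-- A finite type algebra over a field has a countable spanning set. -/
theorem exists_span_of_finiteType (k A : Type u) [Field k] [CommRing A] [Algebra k A] [Algebra.FiniteType k A] :
    ∃ b : ℕ → A, Submodule.span k (Set.range b) = ⊤ := by
  obtain ⟨n, f, hf⟩ := Algebra.FiniteType.iff_quotient_mvPolynomial''.1 ‹Algebra.FiniteType k A›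
  obtain ⟨c, hc⟩ := exists_surjective_nat (Fin n →₀ ℕ)
  refine ⟨fun i => f (MvPolynomial.basisMonomials (Fin n) k (c i)), ?_⟩
  rw [show (fun i => f (MvPolynomial.basisMonomials (Fin n) k (c i))) =
    f.toLinearMap ∘ MvPolynomial.basisMonomials (Fin n) k ∘ c from rfl, Set.range_comp, Submodule.span_image,
    hc.range_comp, (MvPolynomial.basisMonomials (Fin n) k).span_eq, Submodule.map_top]
  exact LinearMap.range_eq_top.2 hf

/-- A countably generated module over an algebra of countable dimension has countable dimension. -/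
theorem exists_span_module {k A M : Type u} [Field k] [CommRing A] [Algebra k A] [AddCommGroup M]
    [Module k M] [Module A M] [IsScalarTower k A M]
    (hA : ∃ b : ℕ → A, Submodule.span k (Set.range b) = ⊤) {s : Set M} (hs : s.Countable)
    (hspan : Submodule.span A s = ⊤) : ∃ b : ℕ → M, Submodule.span k (Set.range b) = ⊤ := by
  obtain ⟨b, hb⟩ := hA
  have hct : (Set.range b • insert (0 : M) s).Countable :=
    (Set.countable_range b).image2 (hs.insert 0) _
  have hne : (Set.range b • insert (0 : M) s).Nonempty :=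
    (Set.range_nonempty b).smul (Set.insert_nonempty _ _)
  obtain ⟨c, hc⟩ := hct.exists_eq_range hne
  refine ⟨c, ?_⟩
  rw [← hc, Submodule.span_smul_of_span_eq_top hb, Submodule.span_insert_zero, hspan,
    Submodule.restrictScalars_top]

/-- **The diagonal lemma for modules.** -/
theorem exists_seq {k : Type u} [Field k] {ι : Type v} [Countable ι] (A M : ι → Type u)
    [∀ l, CommRing (A l)] [∀ l, Algebra k (A l)] [∀ l, AddCommGroup (M l)] [∀ l, Module k (M l)]
    [∀ l, Module (A l) (M l)] [∀ l, IsScalarTower k (A l) (M l)]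
    (hA : ∀ l, ∃ b : ℕ → A l, Submodule.span k (Set.range b) = ⊤)
    (hM : ∀ l, ∃ b : ℕ → M l, Submodule.span k (Set.range b) = ⊤)
    (D : ℕ → Type v) [∀ i, Countable (D i)] (z : ∀ i, D i) (r : ∀ l i, D i → M l)
    (hz : ∀ l i, r l i (z i) = 0) (E : ∀ l, ℕ → Submodule (A l) (M l))
    (hns : ∀ l m, ∃ n, m ≤ n ∧ ∃ m', n < m' ∧ ∃ d, r l n d ∉ E l m')
    (T : ∀ l, ℕ → ℕ → M l) :
    ∃ x : ∀ i, D i, ∀ (l : ι) (q : ℕ) (g h : Fin q → A l) (a : Fin q → M l) (N : ℕ),
      ∑ j, h j * g j = 1 → ∀ s ∈ Submodule.span k (Set.range (T l)),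
        ¬ ∀ j m, ∃ e : ℕ, g j ^ e • (a j - g j ^ N • (s m + psum (r l) x m)) ∈ E l m := by
  letI : ∀ l, Module (A l)ᵐᵒᵖ (M l) := fun l =>
    Module.compHom (M l) (RingEquiv.toOpposite (A l)).symm.toRingHom
  haveI : ∀ l, IsCentralScalar (A l) (M l) := fun l => ⟨fun a m => rfl⟩
  haveI : ∀ l, IsScalarTower k (A l)ᵐᵒᵖ (M l) := fun l => ⟨fun c a m => smul_assoc c a.unop m⟩
  let B : ι → Type u := fun l => TrivSqZeroExt (A l) (M l)
  let E' : ∀ l, ℕ → Ideal (TrivSqZeroExt (A l) (M l)) := fun l m =>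
    { carrier := {y | y.fst = 0 ∧ y.snd ∈ E l m}
      add_mem' := fun {y w} hy hw => ⟨by simp [hy.1, hw.1], by simpa using add_mem hy.2 hw.2⟩
      zero_mem' := ⟨rfl, zero_mem _⟩
      smul_mem' := fun c {y} hy => by
        obtain ⟨h1, h2⟩ := hy
        refine ⟨by simp [smul_eq_mul, h1], ?_⟩
        rw [smul_eq_mul, TrivSqZeroExt.snd_mul, h1]
        simpa using Submodule.smul_mem _ c.fst h2 }
  have hB : ∀ l, ∃ b : ℕ → TrivSqZeroExt (A l) (M l), Submodule.span k (Set.range b) = ⊤ := by
    intro l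
    obtain ⟨b, hb⟩ := hA l
    obtain ⟨c, hc⟩ := hM l
    let inl' : A l →ₗ[k] TrivSqZeroExt (A l) (M l) :=
      (TrivSqZeroExt.inlAlgHom k (A l) (M l)).toLinearMap
    let inr' : M l →ₗ[k] TrivSqZeroExt (A l) (M l) :=
      (TrivSqZeroExt.inrHom (A l) (M l)).restrictScalars k
    have hct : (inl' '' Set.range b ∪ inr' '' Set.range c).Countable :=
      ((Set.countable_range b).image _).union ((Set.countable_range c).image _)
    obtain ⟨w, hw⟩ := hct.exists_eq_range ((Set.range_nonempty b).image _).inl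
    refine ⟨w, ?_⟩
    rw [← hw, Submodule.span_union, Submodule.span_image, Submodule.span_image, hb, hc, eq_top_iff]
    intro y _
    rw [← TrivSqZeroExt.inl_fst_add_inr_snd_eq y]
    exact Submodule.add_mem_sup ⟨y.fst, trivial, rfl⟩ ⟨y.snd, trivial, rfl⟩
  obtain ⟨x, hx⟩ := Core.exists_seq (k := k) (fun l => TrivSqZeroExt (A l) (M l)) hB D z
    (fun l i d => inr (r l i d)) (fun l i => by simp [hz]) E'
    (fun l m => by
      obtain ⟨n, hn, m', hm', d, hd⟩ := hns l m
      exact ⟨n, hn, m', hm', d, fun h => hd (by simpa using h.2)⟩)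
    (fun l t m => inr (T l t m))
  refine ⟨x, fun l q g h a N h1 s hs hall => hx l q (fun j => inl (g j)) (fun j => inl (h j))
    (fun j => inr (a j)) N ?_ (fun m => inr (s m)) ?_ fun j m => ?_⟩
  · simp only [← inl_mul]
    rw [← TrivSqZeroExt.inl_sum, h1, TrivSqZeroExt.inl_one]
  · let L : (ℕ → M l) →ₗ[k] (ℕ → TrivSqZeroExt (A l) (M l)) :=
      LinearMap.compLeft ((TrivSqZeroExt.inrHom (A l) (M l)).restrictScalars k) ℕ
    have : L s ∈ Submodule.map L (Submodule.span k (Set.range (T l))) := ⟨s, hs, rfl⟩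
    rw [Submodule.map_span, ← Set.range_comp] at this
    exact this
  · obtain ⟨e, he⟩ := hall j m
    refine ⟨e, ?_⟩
    have hsum : psum (fun i d => (inr (r l i d) : TrivSqZeroExt (A l) (M l))) x m = inr (psum (r l) x m) := by
      simp only [psum]
      exact (TrivSqZeroExt.inr_sum (R := A l) (M := M l) _ _).symm
    have hpow : ∀ (c : A l) (i : ℕ), (inl c : TrivSqZeroExt (A l) (M l)) ^ i = inl (c ^ i) :=
      fun c i => (map_pow (TrivSqZeroExt.inlHom (A l) (M l)) c i).symm
    have heq : (inl (g j) : TrivSqZeroExt (A l) (M l)) ^ e *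
        (inr (a j) - inl (g j) ^ N * (inr (s m) + inr (psum (r l) x m))) =
        inr (g j ^ e • (a j - g j ^ N • (s m + psum (r l) x m))) := by
      simp only [hpow, ← inr_add, inl_mul_inr, ← inr_sub]
    rw [hsum, heq]
    exact ⟨by simp, by simpa using he⟩

end Groth.Agent.CntQC88.Alg
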