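import Mathlib

/-!
# A diagonal construction for countably generated algebras over an arbitrary field

Given countably many `k`-algebras of countable dimension with sequences of ideals, we construct a sequence
`x` whose partial sums cannot be approximated, locally on any finite standard cover, by a single element.
The proof is a Baire category argument plus Noetherian induction on the space of parameters.
-/

set_option autoImplicit false

universe u v

open TensorProduct Topology

namespace Groth.Agent.CntQC88.Core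

section Eval

variable {k : Type u} [Field k] {P : Type u} [CommRing P] [Algebra k P]
  {B : Type u} [CommRing B] [Algebra k B]

/-- Evaluation of `P ⊗ B` at a rational point of `P`. -/
noncomputable def ev (σ : P →ₐ[k] k) : P ⊗[k] B →ₐ[k] B :=
  Algebra.TensorProduct.lift ((Algebra.ofId k B).comp σ) (AlgHom.id k B) fun _ _ => Commute.all _ _

lemma ev_tmul (σ : P →ₐ[k] k) (p : P) (b : B) : ev σ (p ⊗ₜ[k] b) = σ p • b := by
  simp [ev, Algebra.smul_def, Algebra.ofId_apply]

/-- Reduction modulo an ideal of parameters and an ideal of the algebra. -/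
noncomputable def red (p : Ideal P) (E : Ideal B) : P ⊗[k] B →ₐ[k] (P ⧸ p) ⊗[k] (B ⧸ E) :=
  Algebra.TensorProduct.map (Ideal.Quotient.mkₐ k p) (Ideal.Quotient.mkₐ k E)

lemma exists_larger (p : Ideal P) (E : Ideal B) (W : P ⊗[k] B) (hW : red p E W ≠ 0) :
    ∃ J : Ideal P, p < J ∧ ∀ σ : P →ₐ[k] k, p ≤ RingHom.ker σ → ev σ W ∈ E → J ≤ RingHom.ker σ := by
  classical
  let bQ := Module.Free.chooseBasis k (B ⧸ E)
  let bb := Algebra.TensorProduct.basis (P ⧸ p) bQ
  let c := bb.repr (red p E W)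
  refine ⟨(Ideal.span (Set.range c)).comap (Ideal.Quotient.mk p), ?_, fun σ hσ hev => ?_⟩
  · refine lt_of_le_of_ne (fun y hy => ?_) fun h => hW ?_
    · rw [Ideal.mem_comap, Ideal.Quotient.eq_zero_iff_mem.2 hy]
      exact zero_mem _
    · apply bb.repr.injective
      rw [map_zero]
      ext i
      obtain ⟨y, hy⟩ := Ideal.Quotient.mk_surjective (c i)
      have hm : y ∈ p := by
        rw [h, Ideal.mem_comap, hy]
        exact Ideal.subset_span ⟨i, rfl⟩
      show c i = 0
      rw [← hy, Ideal.Quotient.eq_zero_iff_mem.2 hm]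
  · let σ' : (P ⧸ p) →ₐ[k] k := Ideal.Quotient.liftₐ p σ fun a ha => hσ ha
    let Φ : (P ⧸ p) ⊗[k] (B ⧸ E) →ₗ[k] (B ⧸ E) :=
      (TensorProduct.lid k (B ⧸ E)).toLinearMap ∘ₗ σ'.toLinearMap.rTensor (B ⧸ E)
    have hΦ : ∀ z, bQ.repr (Φ z) = (bb.repr z).mapRange σ' (map_zero σ') := by
      intro z
      induction z using TensorProduct.induction_on with
      | zero => simp
      | tmul r b =>
        ext i
        simp [Φ, bb, Algebra.TensorProduct.basis_repr_tmul, mul_comm]
      | add z₁ z₂ h₁ h₂ => simp [map_add, h₁, h₂, Finsupp.mapRange_add]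
    have hc : ∀ V, Φ (red p E V) = Ideal.Quotient.mk E (ev σ V) := by
      intro V
      induction V using TensorProduct.induction_on with
      | zero => simp
      | tmul r b =>
        rw [ev_tmul]
        simp only [Φ, red, LinearMap.comp_apply, Algebra.TensorProduct.map_tmul, LinearMap.rTensor_tmul,
          LinearEquiv.coe_coe, TensorProduct.lid_tmul, AlgHom.toLinearMap_apply,
          Ideal.Quotient.mkₐ_eq_mk, σ', Ideal.Quotient.liftₐ_apply, Ideal.Quotient.lift_mk]
        exact (map_smul (Ideal.Quotient.mkₐ k E) (σ r) b).symm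
      | add V₁ V₂ h₁ h₂ => simp [map_add, h₁, h₂]
    have h0 : ∀ i, σ' (c i) = 0 := by
      intro i
      have h := congrArg (fun f => f i) (hΦ (red p E W))
      rw [hc, Ideal.Quotient.eq_zero_iff_mem.2 hev, map_zero] at h
      exact h.symm
    intro y hy
    have : Ideal.span (Set.range c) ≤ RingHom.ker σ' := Ideal.span_le.2 (by rintro _ ⟨i, rfl⟩; exact h0 i)
    exact this hy

end Eval

section Main

variable {k : Type u} [Field k]

/-- Partial sums. -/
def psum {B : Type u} [AddCommMonoid B] {D : ℕ → Type v} (r : ∀ i, D i → B) (x : ∀ i, D i) (m : ℕ) : B :=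
  ∑ i ∈ Finset.range m, r i (x i)

variable {B : Type u} [CommRing B] [Algebra k B] {P : Type u} [CommRing P] [Algebra k P]
  {D : ℕ → Type v}

/-- The parameters of a rational point where the partial sums of `x` are locally approximated. -/
def Bad {q : ℕ} (E : ℕ → Ideal B) (r : ∀ i, D i → B) (G H A : Fin q → P ⊗[k] B) (S : ℕ → P ⊗[k] B)
    (N : ℕ) (p : Ideal P) : Set (∀ i, D i) :=
  {x | ∃ σ : P →ₐ[k] k, p ≤ RingHom.ker σ ∧ ∑ j, ev σ (H j) * ev σ (G j) = 1 ∧
    ∀ j m, ∃ e : ℕ, ev σ (G j) ^ e * (ev σ (A j) - ev σ (G j) ^ N * (ev σ (S m) + psum r x m)) ∈ E m}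

theorem isMeagre_bad [IsNoetherianRing P] [∀ i, TopologicalSpace (D i)] [∀ i, DiscreteTopology (D i)]
    [∀ i, Countable (D i)] {q : ℕ} (E : ℕ → Ideal B) (r : ∀ i, D i → B) (z : ∀ i, D i)
    (hz : ∀ i, r i (z i) = 0) (hns : ∀ m, ∃ n, m ≤ n ∧ ∃ m', n < m' ∧ ∃ d, r n d ∉ E m')
    (G H A : Fin q → P ⊗[k] B) (S : ℕ → P ⊗[k] B) (N : ℕ) (p : Ideal P) (hp : p.IsPrime) :
    IsMeagre (Bad E r G H A S N p) := by
  classical
  induction p using WellFoundedGT.induction with
  | ind p IH =>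
  -- the parameters killing a nonzero element lie in finitely many bigger primes
  have key : ∀ (F : Ideal B) (W : P ⊗[k] B), red p F W ≠ 0 →
      IsMeagre {x ∈ Bad E r G H A S N p | ∃ σ : P →ₐ[k] k, p ≤ RingHom.ker σ ∧
        ∑ j, ev σ (H j) * ev σ (G j) = 1 ∧
        (∀ j m, ∃ e : ℕ, ev σ (G j) ^ e * (ev σ (A j) - ev σ (G j) ^ N * (ev σ (S m) + psum r x m)) ∈ E m) ∧
        ev σ W ∈ F} := by
    intro F W hW
    obtain ⟨J, hJ, hJσ⟩ := exists_larger p F W hW
    have hfin : (J.minimalPrimes).Finite := Ideal.finite_minimalPrimes_of_isNoetherianRing P J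
    have : Countable J.minimalPrimes := hfin.countable.to_subtype
    refine IsMeagre.mono ?_ (isMeagre_iUnion fun p' : J.minimalPrimes =>
      IH p'.1 (hJ.trans_le p'.2.1.2) p'.2.1.1)
    rintro x ⟨-, σ, hσ, h1, h2, h3⟩
    have hker : (RingHom.ker σ).IsPrime := RingHom.ker_isPrime _
    obtain ⟨p', hp', hle⟩ := Ideal.exists_minimalPrimes_le (hJσ σ hσ h3)
    exact Set.mem_iUnion.2 ⟨⟨p', hp'⟩, σ, hle, h1, h2⟩
  by_cases hrel : red p ⊥ (∑ j, H j * G j - 1) = 0
  swap
  · refine IsMeagre.mono ?_ (key ⊥ _ hrel)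
    intro x hx
    obtain ⟨σ, h0, h1, h2⟩ := hx
    exact ⟨⟨σ, h0, h1, h2⟩, σ, h0, h1, h2, by simp [map_sub, map_sum, map_mul, h1]⟩
  -- the set where some stage obstructs the generic parameter
  let W : ℕ → B → Fin q → ℕ → P ⊗[k] B := fun m X j e =>
    G j ^ e * (A j - G j ^ N * (S m + 1 ⊗ₜ[k] X))
  let O : Set (∀ i, D i) := {x | ∃ m j, ∀ e, red p (E m) (W m (psum r x m) j e) ≠ 0}
  have hopen : IsOpen O := by
    rw [isOpen_pi_iff]
    rintro x ⟨m, j, h⟩
    refine ⟨Finset.range m, fun i => {x i}, fun i _ => ⟨isOpen_discrete _, rfl⟩, fun y hy => ⟨m, j, ?_⟩⟩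
    have : psum r y m = psum r x m := Finset.sum_congr rfl fun i hi => by rw [hy i hi]
    rwa [this]
  have hdense : Dense O := by
    rw [dense_iff_inter_open]
    rintro V hV ⟨x, hx⟩
    obtain ⟨I, w, hw, hsub⟩ := isOpen_pi_iff.1 hV x hx
    obtain ⟨n, hn, m', hm', d, hd⟩ := hns (I.sup id + 1)
    let y₀ : ∀ i, D i := fun i => if i < n then x i else z i
    let y₁ : ∀ i, D i := Function.update y₀ n d
    have hmem : ∀ y : ∀ i, D i, (∀ i, i < n → y i = x i) → y ∈ V := fun y hy => hsub fun i hi => by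
      rw [hy i (lt_of_le_of_lt (Finset.le_sup (f := id) hi) (by omega))]
      exact (hw i hi).2
    have hy₀ : y₀ ∈ V := hmem _ fun i hi => if_pos hi
    have hy₁ : y₁ ∈ V := hmem _ fun i hi => by
      rw [show y₁ i = y₀ i from Function.update_of_ne (ne_of_lt hi) _ _]
      exact if_pos hi
    have hdiff : psum r y₁ m' - psum r y₀ m' = r n d := by
      simp only [psum, ← Finset.sum_sub_distrib]
      rw [Finset.sum_eq_single n]
      · simp [y₁, y₀, hz]
      · intro i _ hi
        simp [y₁, Function.update_of_ne hi]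
      · intro h
        exact absurd (Finset.mem_range.2 hm') h
    by_contra hne
    rw [Set.not_nonempty_iff_eq_empty, Set.eq_empty_iff_forall_notMem] at hne
    have h₀ : ∀ j, ∃ e, red p (E m') (W m' (psum r y₀ m') j e) = 0 := fun j => by
      by_contra h
      push_neg at h
      exact hne y₀ ⟨hy₀, m', j, h⟩
    have h₁ : ∀ j, ∃ e, red p (E m') (W m' (psum r y₁ m') j e) = 0 := fun j => by
      by_contra h
      push_neg at h
      exact hne y₁ ⟨hy₁, m', j, h⟩
    choose e₀ he₀ using h₀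
    choose e₁ he₁ using h₁
    have hR : Nontrivial (P ⧸ p) := Ideal.Quotient.nontrivial_iff.2 hp.ne_top
    -- the difference dies locally, hence globally
    let g : Fin q → (P ⧸ p) ⊗[k] (B ⧸ E m') := fun j => red p (E m') (G j)
    let t : (P ⧸ p) ⊗[k] (B ⧸ E m') := 1 ⊗ₜ[k] Ideal.Quotient.mk (E m') (r n d)
    have hkill : ∀ j, g j ^ (e₀ j + e₁ j + N) * t = 0 := by
      intro j
      have ha := he₀ j
      have hb := he₁ j
      simp only [W, map_mul, map_pow, map_sub, map_add] at ha hb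
      have ht : t = red p (E m') ((1 : P) ⊗ₜ[k] psum r y₁ m') - red p (E m') ((1 : P) ⊗ₜ[k] psum r y₀ m') := by
        rw [← map_sub, ← TensorProduct.tmul_sub, hdiff]
        simp [red, t]
      rw [ht]
      simp only [g]
      linear_combination (red p (E m') (G j)) ^ e₁ j * ha - (red p (E m') (G j)) ^ e₀ j * hb
    have h1 : ∑ j, red p (E m') (H j) * g j = 1 := by
      have h := congrArg (Algebra.TensorProduct.map (AlgHom.id k (P ⧸ p))
        (Ideal.Quotient.liftₐ (⊥ : Ideal B) (Ideal.Quotient.mkₐ k (E m')) fun a ha => by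
          simp [Ideal.mem_bot.1 ha])) hrel
      have hc : ∀ V : P ⊗[k] B, Algebra.TensorProduct.map (AlgHom.id k (P ⧸ p))
          (Ideal.Quotient.liftₐ (⊥ : Ideal B) (Ideal.Quotient.mkₐ k (E m')) fun a ha => by
            simp [Ideal.mem_bot.1 ha]) (red p ⊥ V) = red p (E m') V := by
        intro V
        induction V using TensorProduct.induction_on with
        | zero => simp
        | tmul a b =>
          simp only [red, Algebra.TensorProduct.map_tmul]
          rfl
        | add a b ha hb => simp [map_add, ha, hb]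
      rw [hc, map_zero, map_sub, map_one, sub_eq_zero, map_sum] at h
      simpa [g] using h
    have htop : Ideal.span (Set.range g) = ⊤ := (Ideal.eq_top_iff_one _).2
      (h1 ▸ Ideal.sum_mem _ fun j _ => Ideal.mul_mem_left _ _ (Ideal.subset_span ⟨j, rfl⟩))
    have htop' := Ideal.span_pow_eq_top _ htop (Finset.univ.sup fun j => e₀ j + e₁ j + N)
    have ht0 : t = 0 := by
      have hmem : (1 : (P ⧸ p) ⊗[k] (B ⧸ E m')) ∈ Ideal.torsionOf ((P ⧸ p) ⊗[k] (B ⧸ E m'))
          ((P ⧸ p) ⊗[k] (B ⧸ E m')) t := by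
        refine (Ideal.span_le.2 ?_) (htop' ▸ Submodule.mem_top)
        rintro _ ⟨_, ⟨j, rfl⟩, rfl⟩
        rw [SetLike.mem_coe, Ideal.mem_torsionOf_iff, smul_eq_mul]
        obtain ⟨c, hc⟩ := Nat.exists_eq_add_of_le
          (Finset.le_sup (f := fun j => e₀ j + e₁ j + N) (Finset.mem_univ j))
        rw [hc]
        show g j ^ (e₀ j + e₁ j + N + c) * t = 0
        rw [pow_add, mul_right_comm, hkill, zero_mul]
      simpa [Ideal.mem_torsionOf_iff] using hmem
    have hinj := Algebra.TensorProduct.includeRight_injective (A := P ⧸ p) (B := B ⧸ E m')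
      (R := k) (algebraMap k (P ⧸ p)).injective
    exact hd (Ideal.Quotient.eq_zero_iff_mem.1 (hinj (ht0.trans (map_zero _).symm)))
  have hOc : IsMeagre Oᶜ := by
    rw [IsMeagre, compl_compl]
    exact residual_of_dense_open hopen hdense
  have hcount : ∀ m, Countable (∀ i : Fin m, D i) := fun m => inferInstance
  let ext : ∀ m, (∀ i : Fin m, D i) → ∀ i, D i := fun m v i => if h : i < m then v ⟨i, h⟩ else z i
  refine IsMeagre.mono ?_ (hOc.union (isMeagre_iUnion fun m => isMeagre_iUnion fun v : (∀ i : Fin m, D i) =>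
    isMeagre_iUnion fun j => isMeagre_iUnion fun e =>
      (show IsMeagre (if hW : red p (E m) (W m (psum r (ext m v) m) j e) = 0 then ∅ else
        {x ∈ Bad E r G H A S N p | ∃ σ : P →ₐ[k] k, p ≤ RingHom.ker σ ∧
          ∑ j, ev σ (H j) * ev σ (G j) = 1 ∧
          (∀ j m, ∃ e : ℕ, ev σ (G j) ^ e * (ev σ (A j) - ev σ (G j) ^ N * (ev σ (S m) + psum r x m)) ∈ E m) ∧
          ev σ (W m (psum r (ext m v) m) j e) ∈ E m}) from by
        split_ifs with hW
        · exact IsMeagre.empty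
        · exact key _ _ hW)))
  intro x hx
  by_cases hxO : x ∈ O
  swap
  · exact Or.inl hxO
  refine Or.inr ?_
  obtain ⟨m, j, hne⟩ := hxO
  obtain ⟨σ, hσ, h1, h2⟩ := hx
  obtain ⟨e, he⟩ := h2 j m
  have hps : psum r (ext m fun i => x i) m = psum r x m :=
    Finset.sum_congr rfl fun i hi => by simp [ext, Finset.mem_range.1 hi]
  simp only [Set.mem_iUnion]
  refine ⟨m, fun i => x i, j, e, ?_⟩
  rw [hps, dif_neg (hne e)]
  refine ⟨⟨σ, hσ, h1, h2⟩, σ, hσ, h1, h2, ?_⟩
  simpa [W, ev_tmul] using he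

/-- **The diagonal lemma.** -/
theorem exists_seq {k : Type u} [Field k] {ι : Type v} [Countable ι] (B : ι → Type u) [∀ l, CommRing (B l)]
    [∀ l, Algebra k (B l)] (hB : ∀ l, ∃ b : ℕ → B l, Submodule.span k (Set.range b) = ⊤)
    (D : ℕ → Type v) [∀ i, Countable (D i)] (z : ∀ i, D i) (r : ∀ l i, D i → B l)
    (hz : ∀ l i, r l i (z i) = 0) (E : ∀ l, ℕ → Ideal (B l))
    (hns : ∀ l m, ∃ n, m ≤ n ∧ ∃ m', n < m' ∧ ∃ d, r l n d ∉ E l m')
    (T : ∀ l, ℕ → ℕ → B l) :
    ∃ x : ∀ i, D i, ∀ (l : ι) (q : ℕ) (g h a : Fin q → B l) (N : ℕ),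
      ∑ j, h j * g j = 1 → ∀ s ∈ Submodule.span k (Set.range (T l)),
        ¬ ∀ j m, ∃ e : ℕ, g j ^ e * (a j - g j ^ N * (s m + psum (r l) x m)) ∈ E l m := by
  classical
  letI : ∀ i, TopologicalSpace (D i) := fun _ => ⊥
  haveI : ∀ i, DiscreteTopology (D i) := fun _ => ⟨rfl⟩
  haveI : Nonempty (∀ i, D i) := ⟨z⟩
  haveI : PolishSpace (∀ i, D i) := inferInstance
  haveI : BaireSpace (∀ i, D i) := inferInstance
  choose b hb using hB
  let V : ℕ → ℕ → Type := fun q d => (Fin q ⊕ Fin q ⊕ Fin q ⊕ Unit) × Fin d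
  let Pl : ℕ → ℕ → Type u := fun q d => MvPolynomial (V q d) k
  let gen : ∀ (l : ι) (q d : ℕ), (Fin q ⊕ Fin q ⊕ Fin q ⊕ Unit) → (ℕ → B l) →
      MvPolynomial (V q d) k ⊗[k] B l := fun l q d w c =>
    ∑ t : Fin d, MvPolynomial.X (w, t) ⊗ₜ[k] c t
  let bad : ι × ℕ × ℕ × ℕ → Set (∀ i, D i) := fun o =>
    Bad (E o.1) (r o.1) (fun j => gen o.1 o.2.1 o.2.2.1 (.inl j) (b o.1))
      (fun j => gen o.1 o.2.1 o.2.2.1 (.inr (.inl j)) (b o.1))
      (fun j => gen o.1 o.2.1 o.2.2.1 (.inr (.inr (.inl j))) (b o.1))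
      (fun m => gen o.1 o.2.1 o.2.2.1 (.inr (.inr (.inr ()))) (fun t => T o.1 t m)) o.2.2.2 ⊥
  have hbad : IsMeagre (⋃ o, bad o) := isMeagre_iUnion fun o =>
    isMeagre_bad (E o.1) (r o.1) z (hz o.1) (hns o.1) _ _ _ _ _ ⊥ Ideal.isPrime_bot
  obtain ⟨x, hx⟩ := (dense_of_mem_residual hbad).nonempty
  refine ⟨x, fun l q g h a N h1 s hs hall => hx ?_⟩
  -- coordinates
  have hev : ∀ {M : Type u} [AddCommGroup M] [Module k M] (c : ℕ → M) (y : M),
      y ∈ Submodule.span k (Set.range c) → ∃ d, ∀ d', d ≤ d' → ∃ f : Fin d' → k, ∑ t, f t • c t = y := by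
    intro M _ _ c y hy
    obtain ⟨f, rfl⟩ := Finsupp.mem_span_range_iff_exists_finsupp.1 hy
    refine ⟨f.support.sup id + 1, fun d' hd' => ⟨fun t => f t, ?_⟩⟩
    rw [Fin.sum_univ_eq_sum_range (fun i => f i • c i) d', Finsupp.sum]
    refine (Finset.sum_subset (fun i hi => Finset.mem_range.2 ?_) fun i _ hi => ?_).symm
    · exact lt_of_le_of_lt (Finset.le_sup (f := id) hi) (by omega)
    · simp [Finsupp.notMem_support_iff.1 hi]
  have hgt : ∀ y : B l, y ∈ Submodule.span k (Set.range (b l)) := fun y => by rw [hb l]; trivial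
  choose dg hdg using fun j => hev (b l) (g j) (hgt _)
  choose dh hdh using fun j => hev (b l) (h j) (hgt _)
  choose da hda using fun j => hev (b l) (a j) (hgt _)
  obtain ⟨ds, hds⟩ := hev (T l) s hs
  let d := ∑ j, (dg j + dh j + da j) + ds
  have hle : ∀ j, dg j + dh j + da j ≤ d := fun j =>
    le_add_right (Finset.single_le_sum (f := fun j => dg j + dh j + da j) (fun i _ => Nat.zero_le _) (Finset.mem_univ j))
  choose fg hfg using fun j => hdg j d ((Nat.le_add_right _ _).trans ((Nat.le_add_right _ _).trans (hle j)))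
  choose fh hfh using fun j => hdh j d ((Nat.le_add_left _ _).trans ((Nat.le_add_right _ _).trans (hle j)))
  choose fa hfa using fun j => hda j d ((Nat.le_add_left _ _).trans (hle j))
  obtain ⟨fs, hfs⟩ := hds d (Nat.le_add_left _ _)
  let val : V q d → k := fun o => Sum.elim fg (Sum.elim fh (Sum.elim fa fun _ => fs)) o.1 o.2
  let σ : MvPolynomial (V q d) k →ₐ[k] k := MvPolynomial.aeval val
  have hgen : ∀ w c, ev σ (gen l q d w c) = ∑ t : Fin d, val (w, t) • c t := by
    intro w c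
    simp [gen, map_sum, ev_tmul, σ]
  refine Set.mem_iUnion.2 ⟨(l, q, d, N), σ, bot_le, ?_, fun j m => ?_⟩
  · simp only [hgen, val, Sum.elim_inl, Sum.elim_inr, hfg, hfh]
    exact h1
  · have hsm : ∑ t : Fin d, fs t • T l t m = s m := by
      rw [← hfs, Finset.sum_apply]
      rfl
    simpa only [hgen, val, Sum.elim_inl, Sum.elim_inr, hfg, hfa, hsm] using hall j m

end Main

end Groth.Agent.CntQC88.Core
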