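import Groth.Agent.CntQC88.Alg
import Groth.Agent.QCoh.Exact
import Groth.Agent.LimTower.Basic
import Groth.Prelude.Def_Coh

/-!
# Limits of towers receiving an epimorphism from a countably generated quasi-coherent module
-/

set_option autoImplicit false

universe u

open CategoryTheory CategoryTheory.Limits AlgebraicGeometry Opposite TopologicalSpace
open Groth.Agent.QCoh

noncomputable section

namespace Groth.Agent.CntQC88.LimMono

variable {X : Scheme.{u}}

/-- Countable generation of the sections over every affine open. -/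
def CG (M : X.Modules) : Prop :=
  ∀ U : X.affineOpens, ∃ s : Set (M.val.obj (op (U : X.Opens))),
    s.Countable ∧ Submodule.span (X.ringCatSheaf.obj.obj (op (U : X.Opens))) s = ⊤

/-- Transporting countable generation along a surjection of sections. -/
theorem CG.of_surjective {M M' : X.Modules} (hM : CG M) (f : M ⟶ M')
    (hf : ∀ U : X.affineOpens, Function.Surjective (f.app (U : X.Opens))) : CG M' := by
  intro U
  obtain ⟨s, hs, hspan⟩ := hM U
  let L := (f.val.app (op (U : X.Opens))).hom
  refine ⟨L '' s, hs.image _, ?_⟩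
  refine eq_top_iff.2 fun y _ => ?_
  obtain ⟨x, rfl⟩ := (show Function.Surjective L from hf U) y
  have hx : x ∈ Submodule.span (X.ringCatSheaf.obj.obj (op (U : X.Opens))) s := hspan ▸ Submodule.mem_top
  exact Submodule.apply_mem_span_image_of_mem_span L hx

/-- The ground field acting on sections. -/
abbrev toSec {k : Type u} [Field k] (f : X ⟶ Spec (CommRingCat.of k)) (U : X.Opens) : k →+* Γ(X, U) :=
  (f.appLE ⊤ U le_top).hom.comp (Scheme.ΓSpecIso (CommRingCat.of k)).inv.hom

theorem finiteType_toSec {k : Type u} [Field k] (f : X ⟶ Spec (CommRingCat.of k)) [LocallyOfFiniteType f]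
    {U : X.Opens} (hU : IsAffineOpen U) : (toSec f U).FiniteType :=
  RingHom.FiniteType.comp (f.finiteType_appLE (isAffineOpen_top _) hU _)
    (RingHom.FiniteType.of_surjective _
      (Scheme.ΓSpecIso (CommRingCat.of k)).symm.commRingCatIsoToRingEquiv.surjective)

theorem exists_span_sec {k : Type u} [Field k] (f : X ⟶ Spec (CommRingCat.of k)) [LocallyOfFiniteType f]
    {U : X.Opens} (hU : IsAffineOpen U) :
    letI := (toSec f U).toAlgebra
    ∃ b : ℕ → Γ(X, U), Submodule.span k (Set.range b) = ⊤ := by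
  letI := (toSec f U).toAlgebra
  haveI : Algebra.FiniteType k Γ(X, U) := finiteType_toSec f hU
  exact Alg.exists_span_of_finiteType k _

/-- Maps of sections are linear. -/
lemma app_smul' {M M' : X.Modules} (f : M ⟶ M') {U : X.Opens} (a : Γ(X, U)) (x : Γ(M, U)) :
    f.app U (a • x) = a • f.app U x :=
  Scheme.Modules.Hom.app_smul f a x

instance preservesTower (U : X.Opens) : PreservesLimitsOfShape ℕᵒᵖ (sectionsFunctor X U) := by
  have : PreservesLimits (sectionsFunctor X U) := inferInstance
  have : PreservesLimitsOfSize.{0, 0} (sectionsFunctor X U) := preservesSmallestLimits_of_preservesLimits _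
  infer_instance

/-- Compatible families of sections give sections of the limit. -/
lemma exists_limit_section (F : ℕᵒᵖ ⥤ X.Modules) {U : X.Opens} (s : ∀ n : ℕ, Γ(F.obj (op n), U))
    (hs : ∀ n : ℕ, (F.map (homOfLE (Nat.le_succ n)).op).app U (s (n + 1)) = s n) :
    ∃ z : Γ(limit F, U), ∀ n, (limit.π F (op n)).app U z = s n := by
  have hcomp : ∀ (i : ℕ) (j : ℕ) (hij : j ≤ i), (F.map (homOfLE hij).op).app U (s i) = s j := by
    intro i j hij
    induction i, hij using Nat.le_induction with
    | base =>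
      rw [show (homOfLE (le_refl j)).op = 𝟙 (op j) from rfl, F.map_id]
      rfl
    | succ i hij ih =>
      rw [show (homOfLE (Nat.le_succ_of_le hij)).op =
        (homOfLE (Nat.le_succ i)).op ≫ (homOfLE hij).op from rfl, F.map_comp]
      show (F.map (homOfLE hij).op).app U ((F.map (homOfLE (Nat.le_succ i)).op).app U (s (i + 1))) = s j
      rw [hs i]
      exact ih
  obtain ⟨z, hz⟩ := LimTower.Basic.exists_limit_eq (F ⋙ sectionsFunctor X U)
    (isLimitOfPreserves (sectionsFunctor X U) (limit.isLimit F)) (fun i => s i.unop) (fun i j f => by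
      have : f = (homOfLE (leOfHom f.unop)).op := Subsingleton.elim _ _
      rw [this]
      exact hcomp i.unop j.unop (leOfHom f.unop))
  exact ⟨z, fun n => hz (op n)⟩

lemma limit_section_ext (F : ℕᵒᵖ ⥤ X.Modules) {U : X.Opens} {y z : Γ(limit F, U)}
    (h : ∀ n, (limit.π F (op n)).app U y = (limit.π F (op n)).app U z) : y = z :=
  Concrete.isLimit_ext (F ⋙ sectionsFunctor X U)
    (isLimitOfPreserves (sectionsFunctor X U) (limit.isLimit F)) y z fun i => h i.unop

/-- A finite standard cover by functions with a local property. -/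
lemma exists_std_cover {U : X.Opens} (hU : IsAffineOpen U) (P : Γ(X, U) → Prop)
    (hP : ∀ x ∈ U, ∃ g, P g ∧ x ∈ X.basicOpen g) :
    ∃ (q : ℕ) (g h : Fin q → Γ(X, U)), (∀ j, P (g j)) ∧ ∑ j, h j * g j = 1 := by
  classical
  have htop : Ideal.span {g | P g} = ⊤ := hU.self_le_iSup_basicOpen_iff.1 fun x hx => by
    obtain ⟨g, hg, hxg⟩ := hP x hx
    exact Opens.mem_iSup.2 ⟨⟨g, hg⟩, hxg⟩
  obtain ⟨s, hs, hspan⟩ := (Ideal.span_eq_top_iff_finite _).1 htop
  have h1 : (1 : Γ(X, U)) ∈ Submodule.span Γ(X, U) (Set.range fun j : Fin s.card => (s.equivFin.symm j : Γ(X, U))) := by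
    have : Set.range (fun j : Fin s.card => (s.equivFin.symm j : Γ(X, U))) = (s : Set Γ(X, U)) := by
      rw [← Function.comp_def, Set.range_comp, s.equivFin.symm.range_eq_univ, Set.image_univ, Subtype.range_coe]
    rw [this]
    exact (Ideal.eq_top_iff_one _).1 hspan
  obtain ⟨c, hc⟩ := (Submodule.mem_span_range_iff_exists_fun Γ(X, U)).1 h1
  exact ⟨s.card, fun j => s.equivFin.symm j, c, fun j => hs (s.equivFin.symm j).2, hc⟩

/-- Sections of the composite kill at a uniform stage, over an affine open. -/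
theorem exists_stage_kernel {k : Type u} [Field k] (p : X ⟶ Spec (CommRingCat.of k)) [LocallyOfFiniteType p]
    (F : ℕᵒᵖ ⥤ X.Modules) (hF : ∀ n : ℕ, Coh.IsQCoh (F.obj (op n))) (G : X.Modules) [G.IsQuasicoherent]
    (hGc : CG G) (φ : G ⟶ limit F) [Epi φ] {U : X.Opens} (hU : IsAffineOpen U) :
    ∃ n : ℕ, ∀ t : Γ(G, U), (φ ≫ limit.π F (op n)).app U t = 0 → φ.app U t = 0 := by
  classical
  by_contra hne
  push Not at hne
  letI := (toSec p U).toAlgebra
  letI : Module k Γ(G, U) := Module.compHom _ (toSec p U)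
  haveI : IsScalarTower k Γ(X, U) Γ(G, U) := IsScalarTower.of_algebraMap_smul fun _ _ => rfl
  let E : ℕ → Submodule Γ(X, U) Γ(G, U) := fun m =>
    { carrier := {t | (φ ≫ limit.π F (op m)).app U t = 0}
      add_mem' := fun {a b} ha hb => by
        show (φ ≫ limit.π F (op m)).app U (a + b) = 0
        rw [map_add, ha, hb, add_zero]
      zero_mem' := map_zero _
      smul_mem' := fun c {a} ha => by
        show (φ ≫ limit.π F (op m)).app U (c • a) = 0
        rw [app_smul', ha, smul_zero] }
  have hanti : ∀ m : ℕ, ∀ t ∈ E (m + 1), t ∈ E m := by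
    intro m t ht
    show (φ ≫ limit.π F (op m)).app U t = 0
    rw [← limit.w F (homOfLE (Nat.le_succ m)).op, ← Category.assoc]
    show (F.map _).app U ((φ ≫ limit.π F (op (m + 1))).app U t) = 0
    rw [show (φ ≫ limit.π F (op (m + 1))).app U t = 0 from ht, map_zero]
  have hanti' : ∀ m m' : ℕ, m ≤ m' → ∀ t ∈ E m', t ∈ E m := fun m m' h => by
    induction m', h using Nat.le_induction with
    | base => exact fun t ht => ht
    | succ i _ ih => exact fun t ht => ih t (hanti i t ht)
  have hdrop : ∀ m : ℕ, ∃ m', m < m' ∧ ∃ t ∈ E m, t ∉ E m' := by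
    intro m
    by_contra h
    push Not at h
    obtain ⟨t, ht, ht0⟩ := hne m
    apply ht0
    refine limit_section_ext F fun i => ?_
    rw [map_zero]
    have : t ∈ E i := by
      rcases Nat.lt_or_ge m i with hi | hi
      · exact h i hi t ht
      · exact hanti' i m hi t ht
    exact this
  choose nx hnx e he he' using hdrop
  let r : ∀ i : ℕ, Bool → Γ(G, U) := fun i b => if b then e i else 0
  have hmem : ∀ i b, r i b ∈ E i := fun i b => by
    cases b
    · exact zero_mem _
    · exact he i
  obtain ⟨s, hs, hspan⟩ := hGc ⟨U, hU⟩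
  obtain ⟨x, hx⟩ := Alg.exists_seq (k := k) (ι := PUnit.{1}) (fun _ => Γ(X, U)) (fun _ => Γ(G, U))
    (fun _ => exists_span_sec p hU)
    (fun _ => Alg.exists_span_module (exists_span_sec p hU) hs hspan)
    (fun _ => Bool) (fun _ => false) (fun _ i b => r i b) (fun _ _ => rfl) (fun _ => E)
    (fun _ m => ⟨m, le_rfl, nx m, hnx m, true, he' m⟩) (fun _ _ _ => 0)
  obtain ⟨z, hz⟩ := exists_limit_section F (U := U)
    (fun m => (φ ≫ limit.π F (op m)).app U (Core.psum r x m)) (fun m => by
      show (F.map _).app U ((limit.π F (op (m + 1))).app U (φ.app U _)) = _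
      rw [← ConcreteCategory.comp_apply, ← Scheme.Modules.Hom.comp_app, limit.w]
      show (φ ≫ limit.π F (op m)).app U (Core.psum r x (m + 1)) = _
      rw [Core.psum, Finset.sum_range_succ, map_add,
        show (φ ≫ limit.π F (op m)).app U (r m (x m)) = 0 from hmem m (x m), add_zero]
      rfl)
  obtain ⟨q, g, h, hg, h1⟩ := exists_std_cover hU (fun g => ∃ (N : ℕ) (a : Γ(G, U)),
      φ.app _ (res G (X.basicOpen_le g) a) = rres (X.basicOpen_le g) g ^ N • res (limit F) (X.basicOpen_le g) z)
    fun y hy => by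
      obtain ⟨V, hVU, hyV, t, ht⟩ := exists_locally_app_eq φ U z y hy
      obtain ⟨g, hgV, hyg⟩ := hU.exists_basicOpen_le ⟨y, hyV⟩ hy
      obtain ⟨N, a, ha⟩ := (isLocalizingAt G hU g).surj (res G hgV t)
      refine ⟨g, ⟨N, a, ?_⟩, hyg⟩
      rw [ha, app_smul', app_res, ht, res_res]
  choose N a ha using hg
  let N₀ := Finset.univ.sup N
  refine hx ⟨⟩ q g h (fun j => g j ^ (N₀ - N j) • a j) N₀ h1 0 (zero_mem _) fun j m => ?_
  haveI : (F.obj (op m)).IsQuasicoherent := hF m
  have hle : N j ≤ N₀ := Finset.le_sup (Finset.mem_univ j)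
  obtain ⟨e₀, he₀⟩ := (isLocalizingAt (F.obj (op m)) hU (g j)).eq_zero
    ((φ ≫ limit.π F (op m)).app U (g j ^ (N₀ - N j) • a j - g j ^ N₀ • Core.psum r x m)) (by
      rw [map_sub, map_sub, app_smul', app_smul', ← hz m, res_smul, res_smul, sub_eq_zero, map_pow, map_pow]
      show _ • res _ _ ((limit.π F (op m)).app U (φ.app U (a j))) = _
      rw [← app_res, ← app_res, ← app_res, ha j, app_smul', smul_smul, ← pow_add,
        Nat.sub_add_cancel hle])
  refine ⟨e₀, ?_⟩
  show (φ ≫ limit.π F (op m)).app U _ = 0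
  rw [app_smul']
  simpa using he₀

/-- **The key finiteness**: such a limit embeds into one of its stages. -/
theorem exists_mono_π {k : Type u} [Field k] (p : X ⟶ Spec (CommRingCat.of k)) [LocallyOfFiniteType p]
    [CompactSpace X]
    (F : ℕᵒᵖ ⥤ X.Modules) (hF : ∀ n : ℕ, Coh.IsQCoh (F.obj (op n))) (G : X.Modules) [G.IsQuasicoherent]
    (hGc : CG G) (φ : G ⟶ limit F) [Epi φ] :
    ∃ N : ℕ, ∀ n, N ≤ n → Mono (limit.π F (op n)) := by
  classical
  have hcov : ∀ x : X, ∃ U : X.Opens, IsAffineOpen U ∧ x ∈ U := fun x => by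
    obtain ⟨_, ⟨U, hU, rfl⟩, hxU, -⟩ :=
      X.isBasis_affineOpens.exists_subset_of_mem_open (Set.mem_univ x) isOpen_univ
    exact ⟨U, hU, hxU⟩
  choose U hU hxU using hcov
  obtain ⟨t, ht⟩ := isCompact_univ.elim_finite_subcover (fun x => (U x : Set X)) (fun x => (U x).isOpen)
    fun x _ => Set.mem_iUnion.2 ⟨x, hxU x⟩
  choose N hN using fun x => exists_stage_kernel p F hF G hGc φ (hU x)
  refine ⟨t.sup N, fun n hn => ?_⟩
  have hinj : ∀ (V : X.Opens) (z : Γ(limit F, V)), (limit.π F (op n)).app V z = 0 → z = 0 := by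
    intro V z hz
    have hloc : ∀ y : V, ∃ (W : X.Opens) (hW : W ≤ V), (y : X) ∈ W ∧ res (limit F) hW z = 0 := by
      rintro ⟨y, hy⟩
      obtain ⟨x, hxt, hyx⟩ := Set.mem_iUnion₂.1 (ht (Set.mem_univ y))
      obtain ⟨W, hW, hyW, s, hs⟩ := exists_locally_app_eq φ V z y hy
      obtain ⟨g, hgW, hyg⟩ := (hU x).exists_basicOpen_le ⟨y, hyW⟩ hyx
      obtain ⟨e, a, ha⟩ := (isLocalizingAt G (hU x) g).surj (res G hgW s)
      refine ⟨_, hgW.trans hW, hyg, ?_⟩
      haveI : (F.obj (op n)).IsQuasicoherent := hF n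
      have h0 : res _ (X.basicOpen_le g) ((φ ≫ limit.π F (op n)).app (U x) a) = 0 := by
        show res _ _ ((limit.π F (op n)).app (U x) (φ.app (U x) a)) = 0
        rw [← app_res, ← app_res, ha, app_smul', app_res, hs, res_res, app_smul', app_res, hz, map_zero,
          smul_zero]
      obtain ⟨d, hd⟩ := (isLocalizingAt (F.obj (op n)) (hU x) g).eq_zero _ h0
      have hk : φ.app (U x) (g ^ d • a) = 0 := hN x _ (by
        have hle : N x ≤ n := (Finset.le_sup hxt).trans hn
        rw [← limit.w F (homOfLE hle).op, ← Category.assoc]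
        show (F.map _).app (U x) ((φ ≫ limit.π F (op n)).app (U x) (g ^ d • a)) = 0
        rw [app_smul', hd, map_zero])
      have hu : IsUnit (rres (X.basicOpen_le g) g) := X.toRingedSpace.isUnit_res_basicOpen g
      have h2 := congrArg (res (limit F) (X.basicOpen_le g)) hk
      rw [← app_res, res_smul, ha, map_zero, smul_smul, map_pow, ← pow_add, app_smul', app_res, hs,
        res_res] at h2
      exact (hu.pow _).smul_eq_zero.1 h2
    choose W hW hyW hz0 using hloc
    exact eq_zero_of_locally_eq_zero _ hW (fun y hy => Opens.mem_iSup.2 ⟨⟨y, hy⟩, hyW ⟨y, hy⟩⟩) z hz0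
  haveI : ∀ V, Mono (((Scheme.Modules.toPresheaf X).map (limit.π F (op n))).app V) := fun V =>
    ConcreteCategory.mono_of_injective _ ((injective_iff_map_eq_zero _).2 (hinj V.unop))
  haveI := NatTrans.mono_of_mono_app ((Scheme.Modules.toPresheaf X).map (limit.π F (op n)))
  exact (Scheme.Modules.toPresheaf X).mono_of_mono_map inferInstance

end Groth.Agent.CntQC88.LimMono

end
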