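import Groth.Agent.CntQC88.LimMono
import Groth.Agent.LimTower.NatVanish
import Groth.Prelude.Def_W4c2derhamsingLim

/-!
# Mittag-Leffler and vanishing of lim¹ for towers of countably generated quasi-coherent modules
-/

set_option autoImplicit false

universe u

open CategoryTheory CategoryTheory.Limits AlgebraicGeometry Opposite TopologicalSpace
open Groth.Agent.QCoh Groth.Agent.CntQC88.LimMono

noncomputable section

namespace Groth.Agent.CntQC88.LimOne

variable {X : Scheme.{u}}

/-- Transition maps of a tower. -/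
abbrev tr (F : ℕᵒᵖ ⥤ X.Modules) {j i : ℕ} (h : j ≤ i) : F.obj (op i) ⟶ F.obj (op j) := F.map (homOfLE h).op

lemma tr_tr (F : ℕᵒᵖ ⥤ X.Modules) {a b c : ℕ} (h : a ≤ b) (h' : b ≤ c) {U : X.Opens}
    (x : Γ(F.obj (op c), U)) : (tr F h).app U ((tr F h').app U x) = (tr F (h.trans h')).app U x := by
  rw [← ConcreteCategory.comp_apply, ← Scheme.Modules.Hom.comp_app, ← F.map_comp]
  rfl

lemma tr_self (F : ℕᵒᵖ ⥤ X.Modules) {a : ℕ} {U : X.Opens} (x : Γ(F.obj (op a), U)) :
    (tr F (le_refl a)).app U x = x := by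
  show (F.map (𝟙 (op a))).app U x = x
  rw [F.map_id]
  rfl

section Sections

variable {M M' N : X.Modules}

/-- Mono from sections: if a map out of a quasi-coherent module kills global sections over an affine cover,
it is zero. -/
theorem eq_zero_of_cover [M.IsQuasicoherent] {ι : Type*} (U : ι → X.Opens) (hU : ∀ i, IsAffineOpen (U i))
    (hcov : ∀ x : X, ∃ i, x ∈ U i) (f : M ⟶ N) (h : ∀ i (t : Γ(M, U i)), f.app (U i) t = 0) : f = 0 := by
  apply Scheme.Modules.hom_ext
  intro V
  ext t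
  show f.app V t = 0
  have hloc : ∀ y : V, ∃ (W : X.Opens) (hW : W ≤ V), (y : X) ∈ W ∧ res N hW (f.app V t) = 0 := by
    rintro ⟨y, hy⟩
    obtain ⟨i, hyi⟩ := hcov y
    obtain ⟨g, hgV, hyg⟩ := (hU i).exists_basicOpen_le ⟨y, hy⟩ hyi
    obtain ⟨e, a, ha⟩ := (isLocalizingAt M (hU i) g).surj (res M hgV t)
    refine ⟨_, hgV, hyg, ?_⟩
    have h2 := congrArg (res N (X.basicOpen_le g)) (h i a)
    rw [← app_res, ha, map_zero, app_smul', app_res] at h2
    have hu : IsUnit (rres (X.basicOpen_le g) g) := X.toRingedSpace.isUnit_res_basicOpen g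
    exact (hu.pow e).smul_eq_zero.1 h2
  choose W hW hyW hz using hloc
  exact eq_zero_of_locally_eq_zero _ hW (fun y hy => Opens.mem_iSup.2 ⟨⟨y, hy⟩, hyW ⟨y, hy⟩⟩) _ hz

/-- Inclusion of images gives inclusion of sections over affines. -/
theorem range_subset_of_le [M.IsQuasicoherent] [M'.IsQuasicoherent] [N.IsQuasicoherent] (f : M ⟶ N) (g : M' ⟶ N)
    (h : imageSubobject f ≤ imageSubobject g) {U : X.Opens} (hU : IsAffineOpen U) (x : Γ(M, U)) :
    ∃ y, g.app U y = f.app U x := by
  haveI : (Subobject.underlying.obj (imageSubobject g)).IsQuasicoherent :=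
    isQuasicoherent_of_iso ((Abelian.imageIsoImage g) ≪≫ (imageSubobjectIso g).symm)
  obtain ⟨y, hy⟩ := app_surjective_of_epi (factorThruImageSubobject g) hU
    ((factorThruImageSubobject f ≫ Subobject.ofLE _ _ h).app U x)
  refine ⟨y, ?_⟩
  have h1 := congrArg ((imageSubobject g).arrow.app U) hy
  rw [← ConcreteCategory.comp_apply, ← Scheme.Modules.Hom.comp_app, imageSubobject_arrow_comp,
    ← ConcreteCategory.comp_apply, ← Scheme.Modules.Hom.comp_app, Category.assoc, Subobject.ofLE_arrow,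
    imageSubobject_arrow_comp] at h1
  exact h1

/-- Inclusion of images from inclusion of sections over an affine cover. -/
theorem le_of_range_subset [M.IsQuasicoherent] {ι : Type*} (U : ι → X.Opens)
    (hU : ∀ i, IsAffineOpen (U i)) (hcov : ∀ x : X, ∃ i, x ∈ U i) (f : M ⟶ N) (g : M' ⟶ N)
    (h : ∀ i (x : Γ(M, U i)), ∃ y, g.app (U i) y = f.app (U i) x) : imageSubobject f ≤ imageSubobject g := by
  have hfg : f ≫ cokernel.π g = 0 := eq_zero_of_cover U hU hcov _ fun i x => by
    obtain ⟨y, hy⟩ := h i x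
    show (cokernel.π g).app (U i) (f.app (U i) x) = 0
    rw [← hy, ← ConcreteCategory.comp_apply, ← Scheme.Modules.Hom.comp_app, cokernel.condition]
    rfl
  let a := (imageSubobject g).arrow
  have hga : g ≫ cokernel.π a = 0 := by
    refine (congrArg (fun q => q ≫ cokernel.π a) (imageSubobject_arrow_comp g)).symm.trans ?_
    simp only [a, Category.assoc, cokernel.condition, comp_zero]
  have hfa : f ≫ cokernel.π a = 0 := by
    rw [← cokernel.π_desc g (cokernel.π a) hga, ← Category.assoc, hfg, zero_comp]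
  exact imageSubobject_le f (Abelian.monoLift a f hfa) (Abelian.monoLift_comp a f hfa)

end Sections

section Products

variable (F : ℕᵒᵖ ⥤ X.Modules)

/-- The product of the stages. -/
abbrev Pr : X.Modules := ∏ᶜ fun n : ℕ => F.obj (op n)

/-- Components of sections of the product. -/
abbrev comp {U : X.Opens} (n : ℕ) (z : Γ(Pr F, U)) : Γ(F.obj (op n), U) :=
  (Pi.π (fun n : ℕ => F.obj (op n)) n).app U z

instance preservesProd (U : X.Opens) : PreservesLimitsOfShape (Discrete ℕ) (sectionsFunctor X U) := by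
  have : PreservesLimits (sectionsFunctor X U) := inferInstance
  have : PreservesLimitsOfSize.{0, 0} (sectionsFunctor X U) := preservesSmallestLimits_of_preservesLimits _
  infer_instance

lemma exists_prod_section {U : X.Opens} (s : ∀ n, Γ(F.obj (op n), U)) :
    ∃ z : Γ(Pr F, U), ∀ n, comp F n z = s n := by
  let K := Discrete.functor (fun n : ℕ => F.obj (op n))
  obtain ⟨z, hz, -⟩ := (Types.isLimit_iff _).1
    ⟨isLimitOfPreserves (forget Ab.{u}) (isLimitOfPreserves (sectionsFunctor X U) (limit.isLimit K))⟩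
    (fun i => s i.as) (fun {i j} f => by
      obtain ⟨i⟩ := i; obtain ⟨j⟩ := j
      obtain rfl : i = j := Discrete.eq_of_hom f
      obtain rfl : f = 𝟙 _ := Subsingleton.elim _ _
      simp <;> rfl)
  exact ⟨z, fun n => hz ⟨n⟩⟩

lemma comp_ext {U : X.Opens} {y z : Γ(Pr F, U)} (h : ∀ n, comp F n y = comp F n z) : y = z :=
  Concrete.isLimit_ext (Discrete.functor (fun n : ℕ => F.obj (op n)) ⋙ sectionsFunctor X U)
    (isLimitOfPreserves (sectionsFunctor X U) (limit.isLimit _)) y z fun i => h i.as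

lemma comp_diff {U : X.Opens} (n : ℕ) (y : Γ(Pr F, U)) :
    comp F n ((LimSh.towerDiffSh F).app U y) = comp F n y - (tr F (Nat.le_succ n)).app U (comp F (n + 1) y) := by
  show ((LimSh.towerDiffSh F ≫ Pi.π _ n).app U y) = _
  rw [LimSh.towerDiffSh, limit.lift_π]
  rfl

end Products

section Main

variable (F : ℕᵒᵖ ⥤ X.Modules) [hF : ∀ n : ℕ, (F.obj (op n)).IsQuasicoherent]

/-- Mittag-Leffler implies vanishing of lim¹. -/
theorem isZero_of_ml
    (hml : ∀ n : ℕ, ∃ (m : ℕ) (hm : n ≤ m), ∀ (m' : ℕ) (hm' : m ≤ m'),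
      imageSubobject (tr F (hm.trans hm')) = imageSubobject (tr F hm)) :
    IsZero (LimSh.limOneSh F) := by
  have hsurj : ∀ U : X.Opens, IsAffineOpen U → Function.Surjective ((LimSh.towerDiffSh F).app U) := by
    intro U hU z
    have hML : LimTower.Basic.ML (F ⋙ sectionsFunctor X U) := LimTower.Basic.ML.mk fun j => by
      obtain ⟨j⟩ := j
      obtain ⟨m, hm, hst⟩ := hml j
      refine ⟨op m, (homOfLE hm).op, fun k g x => ?_⟩
      obtain ⟨k⟩ := k
      have hjk : j ≤ k := leOfHom g.unop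
      obtain rfl : g = (homOfLE hjk).op := Subsingleton.elim _ _
      obtain ⟨y, hy⟩ := range_subset_of_le (tr F hm) (tr F (hm.trans (le_max_left m k)))
        (hst _ (le_max_left m k)).ge hU x
      refine ⟨(tr F (le_max_right m k)).app U y, ?_⟩
      show (tr F hjk).app U ((tr F (le_max_right m k)).app U y) = (tr F hm).app U x
      rw [← hy, tr_tr]
    obtain ⟨y, hy⟩ := LimTower.NatVanish.towerDiff_surjective_of_ml _ hML (fun n => comp F n z)
    obtain ⟨w, hw⟩ := exists_prod_section F y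
    refine ⟨w, comp_ext F fun n => ?_⟩
    rw [comp_diff, hw, hw]
    exact congrFun hy n
  haveI : Epi (LimSh.towerDiffSh F) := by
    rw [Preadditive.epi_iff_cancel_zero]
    intro Q g hg
    apply Scheme.Modules.hom_ext
    intro V
    ext t
    show g.app V t = 0
    have hloc : ∀ y : V, ∃ (W : X.Opens) (hW : W ≤ V), (y : X) ∈ W ∧ res Q hW (g.app V t) = 0 := by
      rintro ⟨y, hy⟩
      obtain ⟨_, ⟨W, hW, rfl⟩, hyW, hWV⟩ :=
        X.isBasis_affineOpens.exists_subset_of_mem_open hy V.isOpen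
      have hWV : W ≤ V := hWV
      refine ⟨W, hWV, hyW, ?_⟩
      obtain ⟨w, hw⟩ := hsurj W hW (res (Pr F) hWV t)
      rw [← app_res, ← hw, ← ConcreteCategory.comp_apply, ← Scheme.Modules.Hom.comp_app, hg]
      rfl
    choose W hW hyW hz using hloc
    exact eq_zero_of_locally_eq_zero _ hW (fun y hy => Opens.mem_iSup.2 ⟨⟨y, hy⟩, hyW ⟨y, hy⟩⟩) _ hz
  exact isZero_cokernel_of_epi _

/-- Countable generation of lim¹ implies Mittag-Leffler. -/
theorem ml_of_cg {k : Type u} [Field k] (p : X ⟶ Spec (CommRingCat.of k)) [LocallyOfFiniteType p]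
    [CompactSpace X] (hFc : ∀ n : ℕ, CG (F.obj (op n))) (hc : CG (LimSh.limOneSh F)) (n₀ : ℕ) :
    ∃ (m : ℕ) (hm : n₀ ≤ m), ∀ (m' : ℕ) (hm' : m ≤ m'),
      imageSubobject (tr F (hm.trans hm')) = imageSubobject (tr F hm) := by
  classical
  have hcov : ∀ x : X, ∃ U : X.Opens, IsAffineOpen U ∧ x ∈ U := fun x => by
    obtain ⟨_, ⟨U, hU, rfl⟩, hxU, -⟩ :=
      X.isBasis_affineOpens.exists_subset_of_mem_open (Set.mem_univ x) isOpen_univ
    exact ⟨U, hU, hxU⟩
  choose U hU hxU using hcov
  obtain ⟨t, ht⟩ := isCompact_univ.elim_finite_subcover (fun x => (U x : Set X)) (fun x => (U x).isOpen)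
    fun x _ => Set.mem_iUnion.2 ⟨x, hxU x⟩
  suffices key : ∀ (V : X.Opens), IsAffineOpen V → ∃ (m : ℕ) (hm : n₀ ≤ m), ∀ (m' : ℕ) (hm' : m ≤ m')
      (x : Γ(F.obj (op m), V)), ∃ y, (tr F (hm.trans hm')).app V y = (tr F hm).app V x by
    choose μ hμ hst using fun x => key (U x) (hU x)
    refine ⟨max n₀ (t.sup μ), le_max_left _ _, fun m' hm' => le_antisymm ?_ ?_⟩
    · rw [show tr F ((le_max_left _ _).trans hm') = tr F hm' ≫ tr F (le_max_left _ _) from
        (F.map_comp (homOfLE hm').op (homOfLE (le_max_left n₀ (t.sup μ))).op)]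
      exact imageSubobject_comp_le _ _
    · refine le_of_range_subset (ι := t) (fun i => U i) (fun i => hU i) (fun x => ?_) _ _ fun i x => ?_
      · obtain ⟨i, hi, hxi⟩ := Set.mem_iUnion₂.1 (ht (Set.mem_univ x))
        exact ⟨⟨i, hi⟩, hxi⟩
      · have hle : μ i ≤ max n₀ (t.sup μ) := (Finset.le_sup i.2).trans (le_max_right _ _)
        obtain ⟨y, hy⟩ := hst i m' (hle.trans hm') ((tr F hle).app _ x)
        exact ⟨y, hy.trans (tr_tr F _ _ x)⟩
  intro V hV
  by_contra hne
  push Not at hne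
  -- generators
  have hgen : ∀ (M : X.Modules), CG M → ∃ s : ℕ → Γ(M, V), s 0 = 0 ∧ Submodule.span Γ(X, V) (Set.range s) = ⊤ := by
    intro M hM
    obtain ⟨S, hS, hspan⟩ : ∃ S : Set Γ(M, V), S.Countable ∧ Submodule.span Γ(X, V) S = ⊤ := hM ⟨V, hV⟩
    obtain ⟨c, hc⟩ := (hS.insert (0 : Γ(M, V))).exists_eq_range (Set.insert_nonempty _ _)
    refine ⟨fun i => Nat.casesOn i 0 c, rfl, eq_top_iff.2 fun y _ => ?_⟩
    refine Submodule.span_mono (R := Γ(X, V)) ?_ (hspan ▸ Submodule.mem_top : y ∈ Submodule.span Γ(X, V) S)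
    intro w hw
    obtain ⟨i, hi⟩ := hc ▸ Set.mem_insert_of_mem (0 : Γ(M, V)) hw
    exact ⟨i + 1, hi⟩
  choose gen hgen0 hgensp using fun i => hgen _ (hFc i)
  obtain ⟨sL, -, hsL⟩ := hgen (cokernel (LimSh.towerDiffSh F)) hc
  -- local representatives of the generators of lim¹
  let π := cokernel.π (LimSh.towerDiffSh F)
  have hrep : ∀ i : ℕ, ∃ (q : ℕ) (g h : Fin q → Γ(X, V)),
      (∀ j, ∃ w : Γ(Pr F, X.basicOpen (g j)), π.app _ w = res (cokernel (LimSh.towerDiffSh F)) (X.basicOpen_le (g j)) (sL i)) ∧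
        ∑ j, h j * g j = 1 := by
    intro i
    refine exists_std_cover hV
      (fun g => ∃ w : Γ(Pr F, X.basicOpen g), π.app _ w = res (cokernel (LimSh.towerDiffSh F)) (X.basicOpen_le g) (sL i))
      fun y hy => ?_
    obtain ⟨W, hW, hyW, w, hw⟩ := exists_locally_app_eq π V (sL i) y hy
    obtain ⟨g, hgW, hyg⟩ := hV.exists_basicOpen_le ⟨y, hyW⟩ hy
    exact ⟨g, ⟨res _ hgW w, by rw [app_res, hw, res_res]⟩, hyg⟩
  choose qR gR hR hrep' hR1 using hrep
  choose wR hwR using hrep'
  -- non-stationarity on some member of every common refinement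
  have hbad : ∀ T : ℕ, ∃ c : ∀ i : Fin T, Fin (qR i), ∀ m (hm : n₀ ≤ m), ∃ m', ∃ hm' : m < m', ∃ d : ℕ,
      ∀ y, (tr F (hm.trans hm'.le)).app (X.basicOpen (∏ i : Fin T, gR i (c i))) y ≠
        res _ (X.basicOpen_le _) ((tr F hm).app V (gen m d)) := by
    intro T
    by_contra h
    push Not at h
    choose M hM hMst using h
    let m := n₀ + ∑ c, M c
    obtain ⟨m', hm', x, hx⟩ := hne m (Nat.le_add_right _ _)
    -- the ideal of multipliers into the smaller image
    let I : Ideal Γ(X, V) :=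
      { carrier := {a | ∃ y, (tr F ((Nat.le_add_right _ _).trans hm')).app V y =
          a • (tr F (Nat.le_add_right n₀ _)).app V x}
        add_mem' := fun {a b} ⟨y, hy⟩ ⟨w, hw⟩ => ⟨y + w, by rw [map_add, hy, hw, add_smul]⟩
        zero_mem' := ⟨0, by rw [map_zero, zero_smul]⟩
        smul_mem' := fun a b ⟨y, hy⟩ => ⟨a • y, by rw [app_smul', hy, smul_eq_mul, mul_smul]⟩ }
    suffices hI : I = ⊤ by
      obtain ⟨y, hy⟩ := (hI ▸ Submodule.mem_top : (1 : Γ(X, V)) ∈ I)
      rw [one_smul] at hy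
      exact hx y hy
    have hmem : ∀ c : (∀ i : Fin T, Fin (qR i)), ∃ e, (∏ i : Fin T, gR i (c i)) ^ e ∈ I := by
      intro c
      let g := ∏ i : Fin T, gR i (c i)
      show ∃ e, g ^ e ∈ I
      have hMm : M c ≤ m := le_add_left (Finset.single_le_sum (fun _ _ => Nat.zero_le _) (Finset.mem_univ c))
      -- the image over D(g) of every section
      rcases Nat.eq_or_lt_of_le (hMm.trans hm') with heq | hlt
      · refine ⟨1, g • (tr F (le_of_eq heq.symm)).app V ((tr F hMm).app V x), ?_⟩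
        rw [app_smul', tr_tr, tr_tr, pow_one]
      · have hall : ∀ w : Γ(F.obj (op (M c)), V), ∃ y, (tr F ((hM c).trans hlt.le)).app (X.basicOpen g) y =
            res _ (X.basicOpen_le g) ((tr F (hM c)).app V w) := by
          intro w
          let S : Submodule Γ(X, V) Γ(F.obj (op (M c)), V) :=
            { carrier := {w | ∃ y, (tr F ((hM c).trans hlt.le)).app (X.basicOpen g) y =
                res _ (X.basicOpen_le g) ((tr F (hM c)).app V w)}
              add_mem' := fun {a b} ⟨y, hy⟩ ⟨w, hw⟩ =>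
                ⟨y + w, by rw [map_add, hy, hw, map_add, map_add]⟩
              zero_mem' := ⟨0, by rw [map_zero, map_zero, map_zero]⟩
              smul_mem' := fun a b ⟨y, hy⟩ =>
                ⟨rres (X.basicOpen_le g) a • y, by rw [app_smul', hy, app_smul', res_smul]⟩ }
          have : Submodule.span Γ(X, V) (Set.range (gen (M c))) ≤ S := Submodule.span_le.2 (by
            rintro _ ⟨d, rfl⟩
            exact hMst c m' hlt d)
          exact this ((hgensp (M c)) ▸ Submodule.mem_top)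
        obtain ⟨y, hy⟩ := hall ((tr F hMm).app V x)
        rw [tr_tr] at hy
        obtain ⟨e, a, ha⟩ := (isLocalizingAt (F.obj (op m')) hV g).surj y
        obtain ⟨e', he'⟩ := (isLocalizingAt (F.obj (op n₀)) hV g).eq_zero
          ((tr F ((Nat.le_add_right _ _).trans hm')).app V a - g ^ e • (tr F (Nat.le_add_right n₀ _)).app V x) (by
            rw [map_sub, ← app_res, ha, app_smul', res_smul, map_pow, sub_eq_zero]
            exact congrArg _ hy)
        refine ⟨e' + e, g ^ e' • a, ?_⟩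
        rw [app_smul', pow_add, mul_smul]
        rwa [smul_sub, sub_eq_zero] at he'
    choose e he using hmem
    refine (Ideal.eq_top_iff_one _).2 ?_
    have h1 : (1 : Γ(X, V)) ∈ Ideal.span (Set.range fun c : ∀ i : Fin T, Fin (qR i) => ∏ i : Fin T, gR i (c i)) := by
      have : (1 : Γ(X, V)) = ∏ i : Fin T, ∑ j, hR i j * gR i j := by simp [hR1]
      rw [this, Fintype.prod_sum]
      refine Ideal.sum_mem _ fun c _ => ?_
      rw [Finset.prod_mul_distrib]
      exact Ideal.mul_mem_left _ _ (Ideal.subset_span ⟨c, rfl⟩)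
    have htop := Ideal.span_pow_eq_top _ ((Ideal.eq_top_iff_one _).2 h1) (∑ c, e c)
    refine (Ideal.span_le.2 ?_) (htop ▸ Submodule.mem_top)
    rintro _ ⟨_, ⟨c, rfl⟩, rfl⟩
    obtain ⟨r, hr⟩ := Nat.exists_eq_add_of_le (Finset.single_le_sum (f := e) (fun _ _ => Nat.zero_le _)
      (Finset.mem_univ c))
    show (∏ i : Fin T, gR i (c i)) ^ (∑ c, e c) ∈ I
    rw [hr, pow_add]
    exact Ideal.mul_mem_right _ _ (he c)
  choose cT hcT using hbad
  -- the contexts
  let V' : ℕ → X.Opens := fun T => X.basicOpen (∏ i : Fin T, gR i (cT T i))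
  have hV' : ∀ T, IsAffineOpen (V' T) := fun T => hV.basicOpen _
  have hle : ∀ T, V' T ≤ V := fun T => X.basicOpen_le _
  have hleR : ∀ T (i : Fin T), V' T ≤ X.basicOpen (gR i (cT T i)) := fun T i => by
    show X.basicOpen (∏ i : Fin T, gR i (cT T i)) ≤ _
    rw [← Finset.mul_prod_erase Finset.univ _ (Finset.mem_univ i), X.basicOpen_mul]
    exact inf_le_left
  letI : ∀ T, Algebra k Γ(X, V' T) := fun T => (toSec p (V' T)).toAlgebra
  letI : ∀ T, Module k Γ(F.obj (op n₀), V' T) := fun T => Module.compHom _ (toSec p (V' T))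
  haveI : ∀ T, IsScalarTower k Γ(X, V' T) Γ(F.obj (op n₀), V' T) := fun T =>
    IsScalarTower.of_algebraMap_smul fun _ _ => rfl
  let E : ∀ T, ℕ → Submodule Γ(X, V' T) Γ(F.obj (op n₀), V' T) := fun T m =>
    { carrier := {w | ∀ hm : n₀ ≤ m, ∃ y, (tr F hm).app (V' T) y = w}
      add_mem' := fun {a b} ha hb hm => by
        obtain ⟨y, hy⟩ := ha hm
        obtain ⟨w, hw⟩ := hb hm
        exact ⟨y + w, by rw [map_add, hy, hw]⟩
      zero_mem' := fun _ => ⟨0, map_zero _⟩
      smul_mem' := fun a w hw hm => by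
        obtain ⟨y, hy⟩ := hw hm
        exact ⟨a • y, by rw [app_smul', hy]⟩ }
  -- pushing a family to stage n₀
  let dn : ∀ (W : X.Opens) (i : ℕ), Γ(F.obj (op i), W) →+ Γ(F.obj (op n₀), W) := fun W i =>
    if hi : n₀ ≤ i then ((tr F hi).app W).hom else 0
  choose b hb using fun T => exists_span_sec p (hV' T)
  let seq : ∀ T, Fin T → ℕ → Γ(F.obj (op n₀), V' T) := fun T i m =>
    ∑ a ∈ Finset.range m, dn (V' T) a (comp F a (res _ (hleR T i) (wR i (cT T i))))
  let Tg : ∀ T, ℕ → ℕ → Γ(F.obj (op n₀), V' T) := fun T o =>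
    if ho : o.unpair.2 < T then fun m => b T o.unpair.1 • seq T ⟨_, ho⟩ m else 0
  obtain ⟨x, hx⟩ := Alg.exists_seq (k := k) (fun T => Γ(X, V' T)) (fun T => Γ(F.obj (op n₀), V' T))
    (fun T => ⟨b T, hb T⟩) (fun T => by
      obtain ⟨S, hS, hspan⟩ := hFc n₀ ⟨V' T, hV' T⟩
      exact Alg.exists_span_module ⟨b T, hb T⟩ hS hspan)
    (fun _ => ℕ) (fun _ => 0) (fun T i d => res _ (hle T) (dn V i (gen i d)))
    (fun T i => by simp [hgen0]) E
    (fun T m => by
      obtain ⟨m', hm', d, hd⟩ := hcT T (max m n₀) (le_max_right _ _)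
      refine ⟨max m n₀, le_max_left _ _, m', hm', d, fun hmem => ?_⟩
      obtain ⟨y, hy⟩ := hmem ((le_max_right _ _).trans hm'.le)
      refine hd y (hy.trans ?_)
      simp only [dn, dif_pos (le_max_right m n₀)]) Tg
  obtain ⟨z, hz⟩ := exists_prod_section F (fun i => gen i (x i))
  obtain ⟨c, hc'⟩ := Finsupp.mem_span_range_iff_exists_finsupp.1
    (show π.app V z ∈ Submodule.span Γ(X, V) (Set.range sL) from hsL ▸ Submodule.mem_top)
  let T := c.support.sup id + 1
  have hsum : π.app V z = ∑ i : Fin T, c i • sL i := by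
    rw [← hc', Fin.sum_univ_eq_sum_range (fun i => c i • sL i) T, Finsupp.sum]
    refine Finset.sum_subset (fun i hi => Finset.mem_range.2 ?_) fun i _ hi => ?_
    · exact Nat.lt_succ_of_le (Finset.le_sup (f := id) hi)
    · simp [Finsupp.notMem_support_iff.1 hi]
  let cc : Fin T → Γ(X, V' T) := fun i => rres (hle T) (c i)
  let v : Γ(Pr F, V' T) := res _ (hle T) z - ∑ i : Fin T, cc i • res _ (hleR T i) (wR i (cT T i))
  have hv : π.app (V' T) v = 0 := by
    simp only [v, map_sub, map_sum, app_smul', app_res, hwR, res_res, hsum, res_smul, cc]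
    exact sub_self _
  -- lifts along the tower difference
  have hlift : ∀ y ∈ V' T, ∃ g : Γ(X, V' T),
      (∃ w, (LimSh.towerDiffSh F).app _ w = res _ (X.basicOpen_le g) v) ∧ y ∈ X.basicOpen g := by
    intro y hy
    let S : ShortComplex X.Modules :=
      ShortComplex.mk (Abelian.image.ι (LimSh.towerDiffSh F)) π (kernel.condition _)
    obtain ⟨v', hv'⟩ := exists_app_eq_of_app_eq_zero S
      (ShortComplex.exact_of_f_is_kernel S (kernelIsKernel _)) (V' T) v hv
    obtain ⟨W, hW, hyW, w, hw⟩ :=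
      exists_locally_app_eq (Abelian.factorThruImage (LimSh.towerDiffSh F)) (V' T) v' y hy
    obtain ⟨g, hgW, hyg⟩ := (hV' T).exists_basicOpen_le ⟨y, hyW⟩ hy
    refine ⟨g, ⟨res _ hgW w, ?_⟩, hyg⟩
    rw [← Abelian.image.fac (LimSh.towerDiffSh F)]
    show Scheme.Modules.Hom.app (M := Abelian.image (LimSh.towerDiffSh F)) (Abelian.image.ι (LimSh.towerDiffSh F)) _
      (Scheme.Modules.Hom.app (Abelian.factorThruImage (LimSh.towerDiffSh F)) _ (res _ hgW w)) = _
    rw [app_res, hw, app_res, app_res, res_res]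
    exact congrArg _ hv'
  obtain ⟨q, g, h, hg, h1⟩ := exists_std_cover (hV' T) _ hlift
  choose w hw using hg
  choose N a ha using fun j => (isLocalizingAt (F.obj (op n₀)) (hV' T) (g j)).surj (comp F n₀ (w j))
  let N₀ := Finset.univ.sup N
  let s : ℕ → Γ(F.obj (op n₀), V' T) := fun m => -∑ i : Fin T, cc i • seq T i m
  have hs : s ∈ Submodule.span k (Set.range (Tg T)) := by
    have : s = -∑ i : Fin T, fun m => cc i • seq T i m := by
      funext m
      simp [s, Finset.sum_apply]
    rw [this]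
    refine Submodule.neg_mem _ (Submodule.sum_mem _ fun i _ => ?_)
    let L : Γ(X, V' T) →ₗ[k] (ℕ → Γ(F.obj (op n₀), V' T)) :=
      { toFun := fun a m => a • seq T i m
        map_add' := fun a a' => funext fun m => add_smul _ _ _
        map_smul' := fun r a => funext fun m => smul_assoc r a (seq T i m) }
    have hmem : L (cc i) ∈ Submodule.map L (Submodule.span k (Set.range (b T))) :=
      ⟨cc i, hb T ▸ Submodule.mem_top, rfl⟩
    rw [Submodule.map_span] at hmem
    refine Submodule.span_mono ?_ hmem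
    rintro _ ⟨_, ⟨o, rfl⟩, rfl⟩
    refine ⟨Nat.pair o i, ?_⟩
    funext m
    simp [Tg, L, Nat.unpair_pair]
  refine hx T q g h (fun j => g j ^ (N₀ - N j) • a j) N₀ h1 s hs fun j m => ?_
  by_cases hm : n₀ ≤ m
  swap
  · exact ⟨0, fun h => absurd h hm⟩
  have hN : N j ≤ N₀ := Finset.le_sup (Finset.mem_univ j)
  have hDg := X.basicOpen_le (g j)
  -- unwinding the difference equation
  have htel : comp F n₀ (w j) = res _ hDg (∑ i ∈ Finset.range m, dn (V' T) i (comp F i v)) +
      (tr F hm).app _ (comp F m (w j)) := by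
    induction m, hm using Nat.le_induction with
    | base =>
      rw [tr_self, Finset.sum_eq_zero (fun i hi => ?_), map_zero, zero_add]
      simp [dn, dif_neg (not_le.2 (Finset.mem_range.1 hi))]
    | succ i hi ih =>
      rw [ih, Finset.sum_range_succ, map_add, add_assoc]
      congr 1
      have hstep : comp F i (w j) = res _ hDg (comp F i v) +
          (tr F (Nat.le_succ i)).app _ (comp F (i + 1) (w j)) := by
        have h := congrArg (comp F i) (hw j)
        rw [comp_diff, sub_eq_iff_eq_add] at h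
        rw [h]
        congr 1
        exact app_res _ hDg v
      rw [hstep, map_add, tr_tr, app_res]
      simp only [dn, dif_pos hi]
  have hps : ∑ i ∈ Finset.range m, dn (V' T) i (comp F i v) =
      s m + Core.psum (fun i d => res (F.obj (op n₀)) (hle T) (dn V i (gen i d))) x m := by
    have hsm : ∀ (i : ℕ) (c : Γ(X, V' T)) (t : Γ(F.obj (op i), V' T)),
        dn (V' T) i (c • t) = c • dn (V' T) i t := by
      intro i c t
      by_cases hi : n₀ ≤ i
      · simp only [dn, dif_pos hi]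
        exact app_smul' _ c t
      · simp [dn, dif_neg hi]
    have hdr : ∀ (i : ℕ) (t : Γ(F.obj (op i), V)),
        dn (V' T) i (res _ (hle T) t) = res _ (hle T) (dn V i t) := by
      intro i t
      by_cases hi : n₀ ≤ i
      · simp only [dn, dif_pos hi]
        exact app_res _ _ t
      · simp [dn, dif_neg hi]
    simp only [s, seq, Core.psum, v, map_sub, map_sum, app_smul', hsm, app_res, hdr, hz,
      Finset.sum_sub_distrib, Finset.smul_sum]
    rw [Finset.sum_comm]
    abel
  obtain ⟨e₁, y₁, hy₁⟩ := (isLocalizingAt (F.obj (op m)) (hV' T) (g j)).surj (comp F m (w j))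
  obtain ⟨e₂, he₂⟩ := (isLocalizingAt (F.obj (op n₀)) (hV' T) (g j)).eq_zero
    (g j ^ e₁ • (g j ^ (N₀ - N j) • a j - g j ^ N₀ • (s m + Core.psum
      (fun i d => res (F.obj (op n₀)) (hle T) (dn V i (gen i d))) x m)) - g j ^ N₀ • (tr F hm).app _ y₁) (by
      simp only [map_sub, res_smul, map_pow, ha, ← app_res, hy₁, app_smul', ← hps, smul_smul, ← pow_add,
        smul_sub]
      rw [htel, smul_add]
      rw [show e₁ + (N₀ - N j) + N j = e₁ + N₀ by omega, Nat.add_comm N₀ e₁]
      abel)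
  refine ⟨e₂ + e₁, fun _ => ⟨g j ^ e₂ • g j ^ N₀ • y₁, ?_⟩⟩
  rw [app_smul', app_smul', pow_add, mul_smul]
  rw [smul_sub, sub_eq_zero] at he₂
  exact he₂.symm

end Main

end Groth.Agent.CntQC88.LimOne

end
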